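/-
The transpositions of the presented Fischer group on 306936 points: the dictionary with the points.
-/
import Cfsg.Agent.Lib.Spor.Fi24Pres.Simple
import Cfsg.Prelude.Def_SporadicB

namespace CfsgLib.Spor.Fi24Class

open CfsgLib.Spor.TC CfsgLib.Spor.Fi24

set_option maxRecDepth 100000

/-- The group. -/
abbrev X₀ : Type := Pres 12 relsX

/-- A generator. -/
noncomputable abbrev gen (x : ℕ) : X₀ := presGen 12 relsX x

/-- The transposition of the base point. -/
noncomputable abbrev zee : X₀ := gen 0

theorem sq_gen (x : ℕ) : gen x * gen x = 1 := (sat_presGen 12 relsX).sq x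

theorem gen_inv (x : ℕ) : (gen x)⁻¹ = gen x := inv_eq_of_mul_eq_one_right (sq_gen x)

theorem zee_not_mem : zee ∉ M₀ := gen_not_mem 0 (by norm_num)

theorem zee_ne : zee ≠ 1 := fun h => zee_not_mem (h ▸ one_mem _)

theorem order_zee : orderOf zee = 2 := by
  refine orderOf_eq_prime ?_ zee_ne
  rw [pow_two]; exact sq_gen 0

theorem rho_gen_val {x : ℕ} (hx : x < 12) (p : Fin nPts) : (rho (gen x) p : ℕ) = T x p := by
  rw [gen, rho_gen, sig_val all_points hx]

theorem rho_inv_apply (g : X₀) (p : Fin nPts) : rho g⁻¹ (rho g p) = p := by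
  rw [← Equiv.Perm.mul_apply, ← map_mul, inv_mul_cancel, map_one, Equiv.Perm.one_apply]

theorem rho_mul (g h : X₀) (p : Fin nPts) : rho (g * h) p = rho g (rho h p) := by
  rw [map_mul, Equiv.Perm.mul_apply]

theorem orbit_ncard : ({pt0} ∪ {p : Fin nPts | InA p}).ncard = 31672 := by
  rw [Set.ncard_union_eq (by simp [InA, pt0]), Set.ncard_singleton, card_InA]

theorem centralizer_zee : Subgroup.centralizer ({zee} : Set X₀) = subX := by
  refine le_antisymm (fun g hg => ?_)
    fun g hg => Subgroup.mem_centralizer_singleton_iff.2 (commute_zero_subX hg).eq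
  have hfix : ∀ k ∈ Subgroup.centralizer ({zee} : Set X₀),
      rho k pt0 = pt0 ∨ InA (rho k pt0) := by
    intro k hk
    by_cases h : rho k pt0 = pt0
    · exact Or.inl h
    refine Or.inr ((inA_iff _).2 ⟨h, ?_⟩)
    rw [← rho_gen, ← rho_mul, ← Subgroup.mem_centralizer_singleton_iff.1 hk, rho_mul,
      mem_subX.1 (Fi24.gen_mem (x := 0) (by decide))]
  by_contra hne
  have hA : InA (rho g pt0) := (hfix g hg).resolve_left fun e => hne (mem_subX.2 e)
  set C := Subgroup.centralizer ({zee} : Set X₀)
  have hle : subX ≤ C := fun h hh => Subgroup.mem_centralizer_singleton_iff.2 (commute_zero_subX hh).eq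
  letI : MulAction X₀ (Fin nPts) := MulAction.compHom (Fin nPts) rho
  have hsm : ∀ (k : X₀) (p : Fin nPts), k • p = rho k p := fun _ _ => rfl
  have horb : MulAction.orbit C pt0 = {pt0} ∪ {p : Fin nPts | InA p} := by
    ext p
    constructor
    · rintro ⟨⟨k, hk⟩, rfl⟩
      rcases hfix k hk with h | h
      · exact Or.inl h
      · exact Or.inr h
    · rintro (rfl | hp)
      · exact MulAction.mem_orbit_self _
      · have h1 : rho g pt0 ∈ {q : Fin nPts | ∃ a ∈ subX, rho a pt965 = q} := orbit_965 ▸ hA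
        have h2 : p ∈ {q : Fin nPts | ∃ a ∈ subX, rho a pt965 = q} := orbit_965 ▸ hp
        obtain ⟨a, ha, ea⟩ := h1
        obtain ⟨b, hb, eb⟩ := h2
        refine ⟨⟨b * a⁻¹ * g, C.mul_mem (C.mul_mem (hle hb) (C.inv_mem (hle ha))) hg⟩, ?_⟩
        show rho (b * a⁻¹ * g) pt0 = p
        rw [rho_mul, rho_mul, ← ea, rho_inv_apply, eb]
  have hstab : Nat.card (MulAction.stabilizer C pt0) = Nat.card subX := by
    refine Nat.card_congr
      { toFun := fun k => ⟨k.1.1, mem_subX.2 k.2⟩
        invFun := fun k => ⟨⟨k.1, hle k.2⟩, mem_subX.1 k.2⟩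
        left_inv := fun _ => rfl
        right_inv := fun _ => rfl }
  haveI := finite_X
  have h := Nat.card_congr (MulAction.orbitProdStabilizerEquivGroup C pt0)
  rw [Nat.card_prod, hstab, horb, Nat.card_coe_set_eq, orbit_ncard] at h
  have hd := Subgroup.card_subgroup_dvd_card C
  rw [← h, card_subX all_points all_phi all_roots, card_X all_points all_phi all_roots] at hd
  norm_num at hd

/-- An element moving the base point to a point. -/
noncomputable def rep (p : Fin nPts) : X₀ := (transitive_rho p).choose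

theorem rep_spec (p : Fin nPts) : rho (rep p) pt0 = p := (transitive_rho p).choose_spec

/-- The transposition of a point. -/
noncomputable def trp (p : Fin nPts) : X₀ := rep p * zee * (rep p)⁻¹

theorem trp_eq {g : X₀} {p : Fin nPts} (h : rho g pt0 = p) : trp p = g * zee * g⁻¹ := by
  have hc : g⁻¹ * rep p ∈ subX := mem_subX.2 (by rw [rho_mul, rep_spec, ← h, rho_inv_apply])
  have e := (commute_zero_subX hc).eq
  rw [trp]
  calc rep p * zee * (rep p)⁻¹ = g * (g⁻¹ * rep p * zee) * (rep p)⁻¹ := by group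
    _ = g * (zee * (g⁻¹ * rep p)) * (rep p)⁻¹ := by rw [e]
    _ = g * zee * g⁻¹ := by group

theorem trp_pt0 : trp pt0 = zee := by
  rw [trp_eq (g := 1) (by rw [map_one]; rfl)]; simp

theorem trp_smul (g : X₀) (p : Fin nPts) : trp (rho g p) = g * trp p * g⁻¹ := by
  rw [trp_eq (g := g * rep p) (by rw [rho_mul, rep_spec]), trp]
  group

theorem trp_injective : Function.Injective trp := by
  intro p q h
  have hc : (rep q)⁻¹ * rep p ∈ subX := by
    rw [← centralizer_zee, Subgroup.mem_centralizer_singleton_iff]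
    simp only [trp] at h
    calc (rep q)⁻¹ * rep p * zee = (rep q)⁻¹ * (rep p * zee * (rep p)⁻¹) * rep p := by group
      _ = zee * ((rep q)⁻¹ * rep p) := by rw [h]; group
  have := congrArg (rho (rep q)) (mem_subX.1 hc)
  rwa [← rho_mul, mul_inv_cancel_left, rep_spec, rep_spec] at this

theorem commute_trp_iff (p q : Fin nPts) : Commute (trp p) (trp q) ↔ rho (trp p) q = q := by
  constructor
  · intro h
    refine trp_injective ?_
    rw [trp_smul, h.eq, mul_inv_cancel_right]
  · intro h
    have e := trp_smul (trp p) q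
    rw [h] at e
    show trp p * trp q = trp q * trp p
    conv_rhs => rw [e]
    group

/-- The class of transpositions. -/
def cls : Set X₀ := Set.range trp

theorem cls_eq : cls = conjugatesOf zee := by
  ext x
  show x ∈ cls ↔ IsConj zee x
  rw [isConj_iff]
  exact ⟨fun ⟨p, hp⟩ => ⟨rep p, hp⟩, fun ⟨g, hg⟩ => ⟨rho g pt0, (trp_eq rfl).trans hg⟩⟩

/-- The points of the twelve generators. -/
def gpts : List ℕ := [0, 2, 965, 2886, 3846, 3902, 3905, 3915, 3925, 3929, 3908, 3920]

theorem gpts_lt : ∀ x < 12, gpts.getD x 0 < nPts := by decide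

/-- The point of a generator. -/
def gpt (x : Fin 12) : Fin nPts := ⟨gpts.getD x 0, gpts_lt x x.2⟩

/-- The steps along the diagram. -/
def gSteps : List (Fin 12 × Fin 12) :=
  [(0, 1), (1, 2), (2, 3), (3, 4), (4, 5), (5, 6), (6, 7), (7, 8), (8, 9), (5, 10), (10, 11)]

theorem gSteps_ok : ∀ e ∈ gSteps, relBraid e.1 e.2 = true ∧
    T e.1 (T e.2 (gpts.getD e.1 0)) = gpts.getD e.2 0 := by decide +kernel

theorem trp_gpt (x : Fin 12) : trp (gpt x) = gen x := by
  have step : ∀ e ∈ gSteps, trp (gpt e.1) = gen e.1 → trp (gpt e.2) = gen e.2 := by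
    intro e he h
    obtain ⟨hb, hw⟩ := gSteps_ok e he
    have hp : rho (gen e.1 * gen e.2) (gpt e.1) = gpt e.2 := Fin.ext (by
      rw [rho_mul, rho_gen_val e.1.2, rho_gen_val e.2.2]
      exact hw)
    rw [← hp, trp_smul, h]
    exact conj_of_braid hb
  have h0 : trp (gpt 0) = gen 0 := trp_pt0
  have h1 := step (0, 1) (by decide) h0
  have h2 := step (1, 2) (by decide) h1
  have h3 := step (2, 3) (by decide) h2
  have h4 := step (3, 4) (by decide) h3
  have h5 := step (4, 5) (by decide) h4
  have h6 := step (5, 6) (by decide) h5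
  have h7 := step (6, 7) (by decide) h6
  have h8 := step (7, 8) (by decide) h7
  have h9 := step (8, 9) (by decide) h8
  have h10 := step (5, 10) (by decide) h5
  have h11 := step (10, 11) (by decide) h10
  fin_cases x
  exacts [h0, h1, h2, h3, h4, h5, h6, h7, h8, h9, h10, h11]

theorem gen_mem_cls {x : ℕ} (hx : x < 12) : gen x ∈ cls := ⟨gpt ⟨x, hx⟩, trp_gpt ⟨x, hx⟩⟩

theorem closure_cls : Subgroup.closure cls = ⊤ := by
  rw [eq_top_iff, ← closure_presGen 12 relsX]
  refine Subgroup.closure_mono ?_
  rintro _ ⟨x, hx, rfl⟩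
  exact gen_mem_cls hx

theorem center_eq : Subgroup.center X₀ = ⊥ := by
  rw [Subgroup.eq_bot_iff_forall]
  intro c hc
  refine rho_inj ?_
  rw [map_one]
  refine Equiv.ext fun p => trp_injective ?_
  rw [trp_smul, Equiv.Perm.one_apply, ← Subgroup.mem_center_iff.1 hc, mul_inv_cancel_right]

/-- An element fixing the points of the twelve generators is the identity. -/
theorem eq_one_of_fix {g : X₀} (h : ∀ x : Fin 12, rho g (gpt x) = gpt x) : g = 1 := by
  have hc : g ∈ Subgroup.center X₀ := by
    rw [Subgroup.mem_center_iff]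
    intro k
    have hk : k ∈ Subgroup.centralizer ({g} : Set X₀) := by
      have : Subgroup.closure (presGen 12 relsX '' Set.Iio 12) ≤ Subgroup.centralizer {g} := by
        rw [Subgroup.closure_le]
        rintro _ ⟨x, hx, rfl⟩
        refine Subgroup.mem_centralizer_singleton_iff.2 ?_
        have e := trp_smul g (gpt ⟨x, hx⟩)
        rw [h ⟨x, hx⟩, trp_gpt] at e
        conv_lhs => rw [show presGen 12 relsX x = g * gen x * g⁻¹ from e]
        group
      exact this ((closure_presGen 12 relsX).symm ▸ Subgroup.mem_top k)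
    exact Subgroup.mem_centralizer_singleton_iff.1 hk
  rw [center_eq] at hc
  exact hc

theorem rho_zee (p : Fin nPts) : rho zee p = sig all_points 0 p := by rw [zee, gen, rho_gen]

theorem pair_zee (q : Fin nPts) : (zee * trp q) ^ 2 = 1 ∨ (zee * trp q) ^ 3 = 1 := by
  rcases class_of_point q with rfl | ⟨hA, -⟩ | ⟨-, -, h, hh, rfl⟩
  · left; rw [trp_pt0, sq_gen, one_pow]
  · left
    have hc : Commute zee (trp q) := by
      rw [← trp_pt0, commute_trp_iff, trp_pt0, rho_zee]
      exact ((inA_iff q).1 hA).2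
    rw [hc.mul_pow, pow_two, pow_two, sq_gen, one_mul]
    rw [trp, show rep q * zee * (rep q)⁻¹ * (rep q * zee * (rep q)⁻¹) = rep q * (zee * zee) * (rep q)⁻¹ by group,
      sq_gen, mul_one, mul_inv_cancel]
  · right
    have h1 : rho (gen 1) pt0 = pt1 :=
      Fin.ext ((rho_gen_val (by norm_num) _).trans (show T 1 0 = 1 by decide +kernel))
    have hz : h * zee * h⁻¹ = zee := by rw [(commute_zero_subX hh).eq, mul_inv_cancel_right]
    have hY : ∀ Y : X₀, zee * (h * Y * h⁻¹) = h * (zee * Y) * h⁻¹ := fun Y => by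
      calc zee * (h * Y * h⁻¹) = h * zee * h⁻¹ * (h * Y * h⁻¹) := by rw [hz]
        _ = _ := by group
    rw [trp_smul, trp_eq h1, gen_inv, hY,
      conj_pow, ← braid_rel (show relBraid 0 1 = true by decide +kernel),
      show zee * (zee * gen 1 * zee) = gen 1 * zee by rw [← mul_assoc, ← mul_assoc, sq_gen, one_mul]]
    have h10 : (gen 1 * zee) ^ 3 = 1 := by
      rw [show gen 1 * zee = (gen 0 * gen 1)⁻¹ by rw [mul_inv_rev, gen_inv, gen_inv], inv_pow]
      have h := (sat_presGen 12 relsX).rel ([0, 1], 3) (by decide +kernel)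
      rw [show ev (presGen 12 relsX) [0, 1] = gen 0 * gen 1 by simp [ev]] at h
      rw [h, inv_one]
    rw [h10, mul_one, mul_inv_cancel]

theorem three_class : Cfsg.IsThreeTranspositionClass cls := by
  refine ⟨⟨fun d hd => ?_, fun d hd e he => ?_⟩, ⟨zee, ⟨pt0, trp_pt0⟩, cls_eq⟩, closure_cls⟩
  · obtain ⟨p, rfl⟩ := hd
    rw [← order_zee]
    exact orderOf_injective (MulAut.conj (rep p)).toMonoidHom (MulAut.conj (rep p)).injective zee
  · obtain ⟨p, rfl⟩ := hd
    obtain ⟨q, rfl⟩ := he
    have h := pair_zee (rho (rep p)⁻¹ q)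
    have e : rep p * (zee * trp (rho (rep p)⁻¹ q)) * (rep p)⁻¹ = trp p * trp q := by
      rw [trp_smul]
      unfold trp
      group
    rw [← e, conj_pow, conj_pow]
    rcases h with h | h
    · left; rw [h, mul_one, mul_inv_cancel]
    · right; rw [h, mul_one, mul_inv_cancel]

theorem card_cls : Nat.card cls = 306936 := by
  rw [cls, Nat.card_range_of_injective trp_injective, Nat.card_fin]

end CfsgLib.Spor.Fi24Class
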