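/-
Seven words in the twelve letters for the generators of the Held group, found by a computer search.
-/
import Mathlib.Tactic.Common

namespace CfsgLib.Spor.Fi24Class

set_option linter.all false

/-- The words. -/
def heWords : List (List ℕ) := [
  [0, 1, 2, 0, 1, 0, 1, 0, 2, 1],
  [4, 5, 10, 6, 7, 5, 6, 4, 5, 10, 11, 3, 4, 5, 10, 8, 7, 6, 5, 4, 3, 1, 2, 0, 1, 0, 1, 0, 2, 1, 3, 4, 5, 6, 7, 8, 10, 5, 4, 3, 11, 10, 5, 4, 6, 5, 7, 6, 10, 5, 4, 6, 4, 5, 10, 11, 7, 6, 3, 4, 5, 10, 7, 8, 6, 7, 4, 5, 6, 3, 4, 5, 10, 11, 10, 8, 7, 5, 6, 3, 4, 5, 10, 9, 8, 7, 6, 5, 4, 3, 2, 0, 1, 0, 1, 0, 2, 3, 4, 5, 6, 7, 8, 9, 10, 5, 4, 3, 6, 5, 7, 8, 10, 11, 10, 5, 4, 3, 6, 5, 4, 7,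 6, 8, 7, 10, 5, 4, 3, 6, 7, 11, 10, 5, 4, 6],
  [11, 4, 5, 10, 8, 6, 7, 5, 6, 4, 5, 10, 11, 7, 5, 6, 3, 4, 5, 10, 9, 8, 7, 6, 5, 4, 3, 1, 2, 0, 1, 0, 1, 0, 2, 1, 3, 4, 5, 6, 7, 8, 9, 10, 5, 4, 3, 6, 5, 7, 11, 10, 5, 4, 6, 5, 7, 6, 8, 10, 5, 4, 11, 6, 5, 10, 7, 8, 6, 7, 5, 6, 4, 5, 10, 11, 8, 6, 7, 4, 5, 6, 3, 4, 5, 10, 9, 8, 7, 6, 5, 4, 3, 1, 2, 0, 1, 0, 1, 0, 2, 1, 3, 4, 5, 6, 7, 8, 9, 10, 5, 4, 3, 6, 5, 4, 7, 6, 8, 11, 10, 5, 4, 6, 5, 7, 6, 8, 7, 10, 5, 6],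
  [11, 4, 5, 10, 8, 6, 7, 5, 6, 4, 5, 10, 11, 4, 5, 6, 3, 4, 5, 10, 9, 8, 7, 6, 5, 4, 3, 1, 2, 0, 1, 0, 1, 0, 2, 1, 3, 4, 5, 6, 7, 8, 9, 10, 5, 4, 3, 6, 5, 4, 11, 10, 5, 4, 6, 5, 7, 6, 8, 10, 5, 4, 11, 10, 11, 5, 10, 9, 7, 8, 6, 7, 5, 6, 4, 5, 10, 11, 10, 8, 6, 7, 5, 6, 3, 4, 5, 10, 9, 8, 7, 6, 5, 4, 3, 1, 2, 0, 1, 0, 1, 0, 2, 1, 3, 4, 5, 6, 7, 8, 9, 10, 5, 4, 3, 6, 5, 7, 6, 8, 10, 11, 10, 5, 4, 6, 5, 7, 6, 8, 7, 9, 10, 5, 11, 10, 0, 1, 2, 0, 1, 0, 1, 0, 2, 1],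
  [6, 7, 5, 6, 4, 5, 10, 11, 5, 10, 7, 8, 6, 7, 5, 6, 3, 4, 5, 10, 9, 8, 7, 6, 5, 4, 3, 1, 2, 0, 1, 0, 1, 0, 2, 1, 3, 4, 5, 6, 7, 8, 9, 10, 5, 4, 3, 6, 5, 7, 6, 8, 7, 10, 5, 11, 10, 5, 4, 6, 5, 7, 6, 11, 4, 5, 10, 8, 6, 7, 5, 6, 4, 5, 10, 11, 7, 5, 6, 3, 4, 5, 10, 9, 8, 7, 6, 5, 4, 3, 1, 2, 0, 1, 0, 1, 0, 2, 1, 3, 4, 5, 6, 7, 8, 9, 10, 5, 4, 3, 6, 5, 7, 11, 10, 5, 4, 6, 5, 7, 6, 8, 10, 5, 4, 11, 0, 1, 2, 0, 1, 0, 1, 0, 2, 1],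
  [4, 5, 10, 11, 10, 8, 7, 5, 6, 3, 4, 5, 10, 9, 8, 7, 6, 5, 4, 3, 1, 2, 0, 1, 0, 1, 0, 2, 1, 3, 4, 5, 6, 7, 8, 9, 10, 5, 4, 3, 6, 5, 7, 8, 10, 11, 10, 5, 4, 6, 4, 5, 10, 7, 8, 6, 7, 5, 6, 4, 5, 10, 11, 10, 6, 7, 5, 6, 3, 4, 5, 10, 9, 8, 7, 6, 5, 4, 3, 1, 2, 0, 1, 0, 1, 0, 2, 1, 3, 4, 5, 6, 7, 8, 9, 10, 5, 4, 3, 6, 5, 7, 6, 10, 11, 10, 5, 4, 6, 5, 7, 6, 8, 7, 10, 5, 4, 6, 0, 1, 2, 0, 1, 0, 1, 0, 2, 1],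
  [10, 8, 6, 7, 5, 6, 4, 5, 10, 11, 6, 7, 5, 6, 1, 2, 3, 4, 5, 10, 9, 8, 7, 6, 5, 4, 3, 2, 1, 0, 1, 2, 3, 4, 5, 6, 7, 8, 9, 10, 5, 4, 3, 2, 1, 6, 5, 7, 6, 11, 10, 5, 4, 6, 5, 7, 6, 8, 10, 3, 4, 5, 6, 2, 3, 4, 5, 10, 11, 7, 6, 5, 10, 6, 7, 8, 5, 6, 7, 4, 5, 6, 3, 4, 5, 10, 11, 6, 7, 5, 6, 1, 2, 3, 4, 5, 10, 9, 8, 7, 6, 5, 4, 3, 2, 1, 0, 1, 2, 3, 4, 5, 6, 7, 8, 9, 10, 5, 4, 3, 2, 1, 6, 5, 7, 6, 11, 10, 5, 4, 3, 6, 5, 4, 7, 6, 5, 8, 7, 6, 10, 5, 6, 7, 11, 10, 5, 4, 3, 2, 6, 5, 4, 3, 0, 1, 2, 0, 1, 0, 1, 0, 2, 1]]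

/-- A point moved by the first word. -/
def hePt : ℕ := 1

end CfsgLib.Spor.Fi24Class
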