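/-
The Held group inside the commutator subgroup of the presented Fischer group.
-/
import Cfsg.Agent.Lib.Spor.Fi24Class.Basic
import Cfsg.Agent.Lib.Spor.Fi24Class.HeWords
import Cfsg.Agent.Lib.Spor.Held.Final

namespace CfsgLib.Spor.Fi24Class

open CfsgLib.Spor.TC CfsgLib.Spor.Fi24

set_option maxRecDepth 100000

/-- The word of a letter, empty beyond seven. -/
def heWord (x : ℕ) : List ℕ := heWords.getD x []

theorem heWord_lt : ∀ x, ∀ a ∈ heWord x, a < 12 := by
  intro x
  by_cases hx : x < 7
  · exact (show ∀ x < 7, ∀ a ∈ heWord x, a < 12 by decide +kernel) x hx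
  · intro a ha
    rw [heWord, List.getD_eq_default _ _ (by
      rw [show heWords.length = 7 by decide +kernel]; omega)] at ha
    simp at ha

theorem el_flatMap (w : List ℕ) :
    el (w.flatMap heWord) = ev (fun x => el (heWord x)) w := by
  induction w with
  | nil => rfl
  | cons a w ih =>
    rw [List.flatMap_cons, ev_cons, ← ih]
    exact ev_append _ _ _

/-- The test of a word at the twelve points. -/
noncomputable def fixTest (w : List ℕ) : Bool := gpts.all fun c => Nat.beq (walk w c) c

theorem el_one {w : List ℕ} (hlt : ∀ a ∈ w, a < 12) (h : fixTest w = true) : el w = 1 := by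
  refine eq_one_of_fix fun x => Fin.ext ?_
  rw [rho_el, ev_val all_points hlt]
  have hm : gpts.getD x 0 ∈ gpts := by
    rw [List.getD_eq_getElem _ _ (show (x : ℕ) < gpts.length from x.2)]
    exact List.getElem_mem _
  exact Nat.eq_of_beq_eq_true (List.all_eq_true.1 h _ hm)

/-- All relators and squares pass. -/
noncomputable def heCheck : Bool :=
  ((List.range 7).all fun x => fixTest (heWord x ++ heWord x)) &&
    Held.relsG.all fun r => fixTest ((powWord r.1 r.2).flatMap heWord)

theorem he_ok : heCheck = true := by decide +kernel

theorem he_sat : Sat 7 Held.relsG fun x => el (heWord x) := by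
  have hok := he_ok
  simp only [heCheck, Bool.and_eq_true, List.all_eq_true, List.mem_range] at hok
  refine ⟨fun x => ?_, fun x hx => ?_, fun r hr => ?_⟩
  · by_cases hx : x < 7
    · show el (heWord x) * el (heWord x) = 1
      rw [el, ← ev_append]
      exact el_one (fun a ha => by
        rcases List.mem_append.1 ha with h | h <;> exact heWord_lt x a h) (hok.1 x hx)
    · show el (heWord x) * el (heWord x) = 1
      rw [heWord, List.getD_eq_default _ _ (by rw [show heWords.length = 7 by decide +kernel]; omega)]
      exact one_mul _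
  · show el (heWord x) = 1
    rw [heWord, List.getD_eq_default _ _ (by rw [show heWords.length = 7 by decide +kernel]; omega)]
    rfl
  · rw [← ev_powWord, ← el_flatMap]
    refine el_one (fun a ha => ?_) (hok.2 r hr)
    obtain ⟨b, -, hb⟩ := List.mem_flatMap.1 ha
    exact heWord_lt b a hb

/-- The map of the Held group. -/
noncomputable def heHom : Pres 7 Held.relsG →* X₀ := presHom he_sat

theorem heHom_gen (x : ℕ) : heHom (presGen 7 Held.relsG x) = el (heWord x) := presHom_gen he_sat x

theorem el_even : ∀ n (w : List ℕ), w.length = 2 * n → (∀ a ∈ w, a < 12) → el w ∈ M₀ := by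
  intro n
  induction n with
  | zero =>
    intro w hw _
    rw [List.length_eq_zero_iff.1 hw]
    exact one_mem _
  | succ n ih =>
    intro w hw hlt
    match w, hw with
    | a :: b :: w, hw =>
      rw [el, show a :: b :: w = [a, b] ++ w from rfl, ev_append,
        show ev (presGen 12 relsX) [a, b] = presGen 12 relsX a * presGen 12 relsX b by simp [ev]]
      refine mul_mem (mul_gen_mem (hlt a (by simp)) (hlt b (by simp)))
        (ih w (by simp only [List.length_cons] at hw; omega) fun c hc => hlt c (by simp [hc]))
    | [a], hw => simp only [List.length_cons, List.length_nil] at hw; omega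
    | [], hw => simp only [List.length_nil] at hw; omega

theorem heHom_range_le : heHom.range ≤ M₀ := by
  rw [heHom, range_presHom, Subgroup.closure_le]
  rintro _ ⟨x, hx, rfl⟩
  obtain ⟨n, hn⟩ := (show ∀ x < 7, ∃ n ≤ 100, (heWord x).length = 2 * n by decide +kernel) x hx
  exact el_even n _ hn.2 (heWord_lt x)

theorem heHom_injective : Function.Injective heHom := by
  haveI : IsSimpleGroup (Pres 7 Held.relsG) := Held.simple_held
  rcases IsSimpleGroup.eq_bot_or_eq_top_of_normal heHom.ker inferInstance with h | h
  · exact (MonoidHom.ker_eq_bot_iff _).1 h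
  · exfalso
    have h0 : el (heWord 0) = 1 := by
      rw [← heHom_gen, ← MonoidHom.mem_ker, h]
      exact Subgroup.mem_top _
    have e := congrArg (fun g => (rho g ⟨hePt, by decide⟩ : ℕ)) h0
    simp only [rho_el, map_one, Equiv.Perm.one_apply] at e
    rw [ev_val all_points (heWord_lt 0)] at e
    exact (show walk (heWord 0) hePt ≠ hePt by decide +kernel) e

theorem exists_he : ∃ K : Subgroup M₀, Cfsg.IsHe K := by
  refine ⟨heHom.range.subgroupOf M₀, ?_⟩
  let e : Pres 7 Held.relsG ≃* (heHom.range.subgroupOf M₀) :=
    (MonoidHom.ofInjective heHom_injective).trans (Subgroup.subgroupOfEquivOfLe heHom_range_le).symm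
  haveI : IsSimpleGroup (Pres 7 Held.relsG) := Held.simple_held
  exact ⟨e.symm.isSimpleGroup, (Nat.card_congr e.toEquiv).symm.trans Held.card_held⟩

end CfsgLib.Spor.Fi24Class
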