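/-
The presented Fischer group as the largest 3-transposition group.
-/
import Cfsg.Agent.Lib.Spor.Fi24Class.He

namespace CfsgLib.Spor.Fi24Class

open CfsgLib.Spor.TC CfsgLib.Spor.Fi24

theorem realization : ∃ (G : Type) (_ : Group G) (_ : Finite G),
    Nat.card G = 2 * 1255205709190661721292800 ∧ ∃ D : Set G, Cfsg.IsThreeTranspositionClass D ∧
      Nat.card D = 306936 ∧
      (∀ d ∈ D, Nat.card (Subgroup.centralizer ({d} : Set G)) = 2 * 4089470473293004800 ∧
        ∃ K : Subgroup G, K ≤ Subgroup.centralizer ({d} : Set G) ∧ Cfsg.IsFi23 K) ∧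
      ∃ H : Subgroup G, H.index = 2 ∧ Cfsg.IsFi24' H ∧ (∃ K : Subgroup H, Cfsg.IsFi23 K) ∧
        (∃ K : Subgroup H, Cfsg.IsHe K) := by
  haveI := finite_X
  refine ⟨X₀, inferInstance, finite_X, card_X all_points all_phi all_roots, cls, three_class, card_cls,
    fun d hd => ?_, M₀, index_M, ⟨simple_M, card_M⟩, ?_, exists_he⟩
  · obtain ⟨p, rfl⟩ := hd
    have hmap : Subgroup.centralizer ({trp p} : Set X₀) = subX.map (MulAut.conj (rep p)).toMonoidHom := by
      rw [← centralizer_zee]
      ext x
      constructor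
      · intro hx
        refine ⟨(rep p)⁻¹ * x * rep p, ?_, by simp [mul_assoc]⟩
        rw [SetLike.mem_coe, Subgroup.mem_centralizer_singleton_iff]
        have := Subgroup.mem_centralizer_singleton_iff.1 hx
        simp only [trp] at this
        calc (rep p)⁻¹ * x * rep p * zee
            = (rep p)⁻¹ * (x * (rep p * zee * (rep p)⁻¹)) * rep p := by group
          _ = zee * ((rep p)⁻¹ * x * rep p) := by rw [this]; group
      · rintro ⟨y, hy, rfl⟩
        rw [Subgroup.mem_centralizer_singleton_iff]
        have := Subgroup.mem_centralizer_singleton_iff.1 hy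
        simp only [trp, MulEquiv.coe_toMonoidHom, MulAut.conj_apply]
        calc rep p * y * (rep p)⁻¹ * (rep p * zee * (rep p)⁻¹) = rep p * (y * zee) * (rep p)⁻¹ := by group
          _ = _ := by rw [this]; group
    refine ⟨?_, K₀.map (MulAut.conj (rep p)).toMonoidHom, ?_, ?_⟩
    · rw [hmap, Subgroup.card_map_of_injective (MulAut.conj (rep p)).injective]
      exact card_subX all_points all_phi all_roots
    · rw [hmap]; exact Subgroup.map_mono inf_le_left
    · let e := K₀.equivMapOfInjective (MulAut.conj (rep p)).toMonoidHom (MulAut.conj (rep p)).injective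
      haveI := simple_K.1
      exact ⟨e.symm.isSimpleGroup, (Nat.card_congr e.toEquiv).symm.trans simple_K.2⟩
  · refine ⟨K₀.subgroupOf M₀, ?_⟩
    let e := Subgroup.subgroupOfEquivOfLe (show K₀ ≤ M₀ from inf_le_right)
    haveI := simple_K.1
    exact ⟨e.isSimpleGroup, (Nat.card_congr e.toEquiv).trans simple_K.2⟩

end CfsgLib.Spor.Fi24Class
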